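import Groth.Agent.FBase64.ExtPow.Unique
import Groth.Agent.FBase64.ProductDim
import Groth.Agent.Desc59.ModDesc
import Groth.Agent.Desc59.AmpleDesc
import Groth.Agent.Om3.ExtPowOmega
import Groth.Agent.Omega57.StalkZero
import Groth.Agent.S1177
import Groth.Agent.S9840
import Groth.Agent.Amp73.PullTensor
import Groth.Agent.Amp73.QA
import Groth.Agent.Div89.NormalSheaf
import Groth.Agent.Inv57.OfTensor
import Groth.Agent.LimTop61.LocFreeStage
import Groth.Agent.Unr55.DescProps
import Groth.Agent.Mero90.Frames
import Groth.Prelude.Def_Canon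
import Mathlib.AlgebraicGeometry.Morphisms.LocalFlatDescent
import Mathlib.AlgebraicGeometry.Sites.Fpqc

/-!
The fibre condition in the definition of a family of del Pezzo surfaces descends along extensions of
the field, hence along fpqc covers.
-/

set_option autoImplicit false
set_option backward.isDefEq.respectTransparency false

universe u

open CategoryTheory CategoryTheory.Limits AlgebraicGeometry
open Groth.Agent

namespace Groth.Agent.FBase64.DelPezzo

/-- An invertible module is detected after a faithfully flat quasi-compact base change. -/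
theorem isInvertible_of_pullback {X X' : Scheme.{u}} (c : X' ⟶ X) [Flat c] [Surjective c]
    [QuasiCompact c] (L : X.Modules) [L.IsQuasicoherent]
    (h : PicF.IsInvertible ((Scheme.Modules.pullback c).obj L)) : PicF.IsInvertible L := by
  have h1 := Mero90.isFinLocFreeOfRank_of_isInvertible h
  rw [LimTop61.isFinLocFreeOfRank_iff] at h1
  have hL : FlatMod.IsFinLocFree L := Groth.Agent.S1177.result c L h1.1
  have h2 : FlatMod.IsFinLocFreeOfRank 1 L := LimTop61.isFinLocFreeOfRank_iff.mpr ⟨hL, fun x => by
    obtain ⟨x', rfl⟩ := c.surjective x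
    exact (LimTop61.stalkRk_pullback c hL x').symm.trans (h1.2 x')⟩
  intro x
  obtain ⟨U, hx, ⟨φ⟩⟩ := h2 x
  exact ⟨U, hx, ⟨φ ≪≫ coproductUniqueIso fun _ : Fin 1 => Coh.structureModule (↑U : Scheme.{u})⟩⟩

/-- The condition on the fibre over an algebraically closed point. -/
def Good {X : Scheme.{u}} {k : Type u} [Field k] (f : X ⟶ Spec (CommRingCat.of k)) : Prop :=
  IsIntegral X ∧ topologicalKrullDim ↥X = 2 ∧
    ∃ ω D : X.Modules, Canon.IsTopDiff f 2 ω ∧ ClSub.IsInverseOf D ω ∧ CohB1.IsAmple D

theorem good_of_good {X X' : Scheme.{u}} {k K : Type u} [Field k] [Field K] [Algebra k K]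
    {f : X ⟶ Spec (CommRingCat.of k)} {f' : X' ⟶ Spec (CommRingCat.of K)} {c : X' ⟶ X}
    [LocallyOfFiniteType f] [IsSeparated f] [QuasiCompact f]
    (sq : IsPullback c f' f (Spec.map (CommRingCat.ofHom (algebraMap k K))))
    (h : Good f') : Good f := by
  obtain ⟨hint, hdim, ω₁, D₁, hω₁, hD₁, hamp⟩ := h
  let a : Spec (CommRingCat.of K) ⟶ Spec (CommRingCat.of k) :=
    Spec.map (CommRingCat.ofHom (algebraMap k K))
  have : Surjective a := ⟨fun y => ⟨Classical.arbitrary _, Subsingleton.elim _ _⟩⟩
  have : Flat a := inferInstance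
  have : Flat c := MorphismProperty.of_isPullback sq.flip ‹Flat a›
  have : Surjective c := MorphismProperty.of_isPullback sq.flip ‹Surjective a›
  have : QuasiCompact c := MorphismProperty.of_isPullback sq.flip (inferInstance : QuasiCompact a)
  have : QuasiSeparated f' := MorphismProperty.of_isPullback sq (inferInstance : QuasiSeparated f)
  have := hint
  have : AlgebraicGeometry.IsReduced X := Groth.Agent.S9840.result c
  have : IrreducibleSpace X := by
    have hirr : IsIrreducible (Set.range c) := by
      rw [← Set.image_univ]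
      exact (IrreducibleSpace.isIrreducible_univ X').image _ c.continuous.continuousOn
    rw [c.surjective.range_eq] at hirr
    exact { isPreirreducible_univ := hirr.2, toNonempty := ⟨c (Classical.arbitrary _)⟩ }
  refine ⟨isIntegral_of_irreducibleSpace_of_isReduced _, ?_, ?_⟩
  · rw [← topologicalKrullDim_bc f (K := K), ← hdim]
    exact (IsHomeomorph.topologicalKrullDim_eq _ (sq.isoPullback.hom.homeomorph.isHomeomorph)).symm
  have : (Omega.sheaf f).IsQuasicoherent := Omega57.isQuasicoherent_omega f
  have : (Omega.sheaf f').IsQuasicoherent := Omega57.isQuasicoherent_omega f'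
  obtain ⟨ω, hω⟩ := ExtPowExists.exists_isExtPow (Omega.sheaf f) 2
  obtain ⟨e⟩ := ExtPowExists.nonempty_iso_of_isExtPow (Om3.isExtPow_omega_of_isPullback sq hω) hω₁
  obtain ⟨t⟩ := hD₁
  have hω₁i : PicF.IsInvertible ω₁ := Inv57.isInvertible_of_tensorMod_iso (EGA73.tensComm _ _ ≪≫ t)
  have : ω.IsQuasicoherent := Om3.isQuasicoherent_of_isExtPow hω
  have hωi : PicF.IsInvertible ω :=
    isInvertible_of_pullback c ω (EGA73.isInvertible_of_iso e.symm hω₁i)
  obtain ⟨hDi, ⟨t'⟩⟩ := Div89.exists_dual_tensor hωi
  refine ⟨ω, RefHull.dual ω, hω, ⟨t'⟩, ?_⟩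
  let D' := (Scheme.Modules.pullback c).obj (RefHull.dual ω)
  have := Amp73.isIso_pullTensHom c hDi hωi
  obtain ⟨u⟩ := Div89.inverse_unique (A := D') (B := D₁) (L := (Scheme.Modules.pullback c).obj ω)
    ((asIso (Amp73.pullTensHom c (RefHull.dual ω) ω)).symm ≪≫ (Scheme.Modules.pullback c).mapIso t' ≪≫
      PicLoc.pullbackStructureIso c)
    (EGA73.tensIso (Iso.refl D₁) e ≪≫ t)
  exact Desc59.AmpleDesc.isAmple_of_pullback f sq hDi (Amp73.isAmple_of_iso u.symm hamp)

end Groth.Agent.FBase64.DelPezzo

namespace Groth.Agent.FBase64.DelPezzo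

/-- The condition on geometric fibres descends along a surjective morphism of the base. -/
theorem good_fibres_of_baseChange {S T T' S' : Scheme.{u}} {p : S ⟶ T} {g : T' ⟶ T} {p' : S' ⟶ T'}
    {g' : S' ⟶ S} (sq : IsPullback g' p' p g) [Surjective g] [IsProper p]
    (h : ∀ (k : Type u) [Field k] [IsAlgClosed k] (σ : Spec (CommRingCat.of k) ⟶ T'),
      Good (pullback.snd p' σ))
    (k : Type u) [Field k] [IsAlgClosed k] (σ : Spec (CommRingCat.of k) ⟶ T) :
    Good (pullback.snd p σ) := by
  obtain ⟨t', ht'⟩ := g.surjective (σ (IsLocalRing.closedPoint k))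
  obtain ⟨z, -, -⟩ := Scheme.Pullback.exists_preimage_pullback (f := g) (g := σ) t'
    (IsLocalRing.closedPoint k) ht'
  let k' := AlgebraicClosure ((pullback g σ).residueField z)
  let q : Spec (CommRingCat.of k') ⟶ pullback g σ :=
    Spec.map (CommRingCat.ofHom (algebraMap ((pullback g σ).residueField z) k')) ≫
      (pullback g σ).fromSpecResidueField z
  let σ' := q ≫ pullback.fst g σ
  let a := q ≫ pullback.snd g σ
  have hsq : σ' ≫ g = a ≫ σ := by simp only [σ', a, Category.assoc, pullback.condition]
  letI : Algebra k k' := (Spec.preimage a).hom.toAlgebra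
  have ha : Spec.map (CommRingCat.ofHom (algebraMap k k')) = a := Spec.map_preimage a
  let c : pullback p' σ' ⟶ pullback p σ := pullback.lift (pullback.fst p' σ' ≫ g')
    (pullback.snd p' σ' ≫ Spec.map (CommRingCat.ofHom (algebraMap k k'))) (by
      rw [ha, Category.assoc, sq.w, pullback.condition_assoc, hsq]
      simp only [a, Category.assoc])
  have hc : IsPullback c (pullback.snd p' σ') (pullback.snd p σ)
      (Spec.map (CommRingCat.ofHom (algebraMap k k'))) := by
    refine IsPullback.of_right ?_ (pullback.lift_snd _ _ _) (IsPullback.of_hasPullback p σ)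
    rw [pullback.lift_fst, ha, ← hsq]
    exact (IsPullback.of_hasPullback p' σ').paste_horiz sq
  exact good_of_good hc (h k' σ')

end Groth.Agent.FBase64.DelPezzo
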