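import Groth.Agent.Om3.ExtPowPull
import Groth.Agent.Coh69.SheafifyLoc
import Groth.Prelude.Def_CohB1

/-!
Exterior powers of quasi-coherent modules exist: sheafify the sectionwise exterior powers; on affine
opens nothing changes, as there they commute with localisation.
-/

set_option autoImplicit false
set_option backward.isDefEq.respectTransparency false

universe u

open CategoryTheory AlgebraicGeometry TopologicalSpace Opposite
open Groth.Agent QC70 Props58.LocFree Om3

noncomputable section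

namespace Groth.Agent.FBase64.ExtPowExists

variable {X : Scheme.{u}} (E : X.Modules) (p : ℕ)

theorem resExt_self {U : X.Opens} (h : U ≤ U) (x : ↥(⋀[Γ(X, U)]^p Γ(E, U))) : resExt E p h x = x := by
  refine DFunLike.congr_fun (semilinear_ext (resO X h) (resExt E p h) (AddMonoidHom.id _)
    (fun r m => resExt_smul E h r m) (fun r m => ?_) (exteriorPower.ιMulti_span Γ(X, U) p Γ(E, U)) ?_) x
  · show r • m = resO X h r • m
    rw [resO_self]
  · rintro _ ⟨v, rfl⟩
    show resExt E p h _ = _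
    rw [resExt_ιMulti]
    simp only [res_self]
    rfl

/-- The sectionwise exterior powers. -/
def pre : X.PresheafOfModules where
  obj U := ModuleCat.of (X.ringCatSheaf.obj.obj U) ↥(⋀[Γ(X, U.unop)]^p Γ(E, U.unop))
  map {U V} i := ModuleCat.ofHom (Y := (ModuleCat.restrictScalars (X.ringCatSheaf.obj.map i).hom).obj
      (ModuleCat.of (X.ringCatSheaf.obj.obj V) ↥(⋀[Γ(X, V.unop)]^p Γ(E, V.unop))))
    { toFun := resExt E p i.unop.le
      map_add' := map_add _
      map_smul' := fun r x => resExt_smul E i.unop.le r x }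
  map_id U := by
    ext x
    exact resExt_self E p _ x
  map_comp {U V W} i j := by
    ext x
    exact (resExt_resExt E i.unop.le j.unop.le x).symm

/-- The underlying presheaf of groups. -/
abbrev preAb : X.Opensᵒᵖ ⥤ AddCommGrpCat.{u} := (pre E p).presheaf

theorem preAb_res {U V : X.Opens} (h : V ≤ U) (x : ↥(⋀[Γ(X, U)]^p Γ(E, U))) :
    Coh69.res (X := X.toTopCat) (preAb E p) h x = resExt E p h x := rfl

variable (U : X.Opens)

instance instModule (a : Γ(X, U)) : Module Γ(X, U) ((preAb E p).obj (op (X.basicOpen a))) :=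
  Module.compHom (↥(⋀[Γ(X, X.basicOpen a)]^p Γ(E, X.basicOpen a))) (X.presheaf.map (homOfLE (X.basicOpen_le a)).op).hom

theorem radical_of_le (hU : IsAffineOpen U) (a : Γ(X, U)) {κ : Type u} [Finite κ] (b : κ → Γ(X, U))
    (h : X.basicOpen a ≤ ⨆ i, X.basicOpen (b i)) : ∃ N : ℕ, a ^ N ∈ Ideal.span (Set.range b) := by
  have h' : hU.fromSpec ⁻¹ᵁ X.basicOpen a ≤ ⨆ i, hU.fromSpec ⁻¹ᵁ X.basicOpen (b i) := by
    rw [← Scheme.Hom.preimage_iSup]
    exact hU.fromSpec.preimage_mono h
  simp only [hU.fromSpec_preimage_basicOpen] at h'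
  refine Ideal.mem_radical_iff.mp ((Ideal.radical_eq_sInf _).ge ?_)
  rw [Submodule.mem_sInf]
  rintro q ⟨hle, hq⟩
  by_contra hne
  obtain ⟨i, hi⟩ := Opens.mem_iSup.mp (h' (show (⟨q, hq⟩ : PrimeSpectrum Γ(X, U)) ∈ PrimeSpectrum.basicOpen a from hne))
  exact hi (hle (Ideal.subset_span ⟨i, rfl⟩))

theorem basisLoc [E.IsQuasicoherent] (hU : IsAffineOpen U) :
    letI := instModule E p U
    Coh69.BasisLoc (X := X.toTopCat) (preAb E p) (fun a : Γ(X, U) => X.basicOpen a) := by
  letI := instModule E p U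
  have key : ∀ a : Γ(X, U), IsUnit (resO X (X.basicOpen_le a) a) := fun a =>
    RingedSpace.isUnit_res_basicOpen _ a
  have h1 : ∀ h : X.basicOpen (1 : Γ(X, U)) ≤ U, ∀ x : ↥(⋀[Γ(X, X.basicOpen (1 : Γ(X, U)))]^p Γ(E, X.basicOpen (1 : Γ(X, U)))),
      ∃ y : ↥(⋀[Γ(X, U)]^p Γ(E, U)), resExt E p h y = x := fun h x =>
    ⟨resExt E p (by rw [Scheme.basicOpen_of_isUnit _ isUnit_one]) x,
      (resExt_resExt E _ _ x).trans (resExt_self E p _ x)⟩
  refine ⟨fun a b h c s => ?_, fun V x hx hx1 => ?_, fun a b => Scheme.basicOpen_mul _ _ _,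
    fun a => (hU.basicOpen a).isCompact, fun a _ _ b h => radical_of_le U hU a b h, fun a h t ht => ?_,
    fun a h s => ?_, fun a s hs => ?_, fun a s => ?_⟩
  · show resExt E p h (resO X (X.basicOpen_le a) c • (show ↥(⋀[Γ(X, X.basicOpen a)]^p Γ(E, X.basicOpen a)) from s)) = _
    rw [resExt_smul, resO_resO]
    rfl
  · obtain ⟨a, ha, hxa⟩ := hU.exists_basicOpen_le (V := V) ⟨x, hx⟩ (X.basicOpen_le _ hx1)
    exact ⟨a, hxa, ha⟩
  · letI := resAlg (X.basicOpen_le a)
    letI := resModule E (X.basicOpen_le a)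
    haveI := isScalarTower_res E (X.basicOpen_le a)
    haveI := isLocalizedModule_resExt (p := p) E hU a
    obtain ⟨y, rfl⟩ := h1 (X.basicOpen_le _) t
    have ht' : resExt E p h (resExt E p (X.basicOpen_le (1 : Γ(X, U))) y) = 0 := ht
    rw [resExt_resExt] at ht'
    obtain ⟨⟨c, n, rfl⟩, hc⟩ := (IsLocalizedModule.eq_zero_iff (Submonoid.powers a)
      (ExtPowAlg.extMap (S := Γ(X, X.basicOpen a)) (resLin E (X.basicOpen_le a)) p)).1 ht'
    refine ⟨n, ?_⟩
    show resO X (X.basicOpen_le (1 : Γ(X, U))) (a ^ n) • resExt E p (X.basicOpen_le (1 : Γ(X, U))) y = 0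
    rw [← resExt_smul]
    exact (congrArg (resExt E p _) hc).trans (map_zero _)
  · letI := resAlg (X.basicOpen_le a)
    letI := resModule E (X.basicOpen_le a)
    haveI := isScalarTower_res E (X.basicOpen_le a)
    haveI := isLocalizedModule_resExt (p := p) E hU a
    obtain ⟨⟨y, ⟨c, n, rfl⟩⟩, hy⟩ := IsLocalizedModule.surj (Submonoid.powers a)
      (ExtPowAlg.extMap (S := Γ(X, X.basicOpen a)) (resLin E (X.basicOpen_le a)) p)
      (show ↥(⋀[Γ(X, X.basicOpen a)]^p Γ(E, X.basicOpen a)) from s)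
    refine ⟨n, resExt E p (X.basicOpen_le (1 : Γ(X, U))) y, ?_⟩
    show resExt E p h (resExt E p _ y) = resO X (X.basicOpen_le a) (a ^ n) •
      (show ↥(⋀[Γ(X, X.basicOpen a)]^p Γ(E, X.basicOpen a)) from s)
    rw [resExt_resExt]
    exact hy.symm.trans (algebraMap_smul Γ(X, X.basicOpen a) (a ^ n) _).symm
  · exact ((key a).smul_eq_zero (x := (show ↥(⋀[Γ(X, X.basicOpen a)]^p Γ(E, X.basicOpen a)) from s))).1 hs
  · obtain ⟨u, hu⟩ := key a
    refine ⟨(↑u⁻¹ : Γ(X, X.basicOpen a)) • (show ↥(⋀[Γ(X, X.basicOpen a)]^p Γ(E, X.basicOpen a)) from s), ?_⟩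
    show resO X (X.basicOpen_le a) a • ((↑u⁻¹ : Γ(X, X.basicOpen a)) •
      (show ↥(⋀[Γ(X, X.basicOpen a)]^p Γ(E, X.basicOpen a)) from s)) =
        (show ↥(⋀[Γ(X, X.basicOpen a)]^p Γ(E, X.basicOpen a)) from s)
    rw [← hu, smul_smul, Units.mul_inv, one_smul]

/-- The unit of sheafification. -/
def unit : pre E p ⟶ ((CohB1.sheafifyMod X).obj (pre E p)).val :=
  (PresheafOfModules.sheafificationAdjunction (𝟙 X.ringCatSheaf.obj)).unit.app (pre E p)

theorem unit_bijective [E.IsQuasicoherent] {U : X.Opens} (hU : IsAffineOpen U) :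
    Function.Bijective ((unit E p).app (op U)) := by
  letI := instModule E p U
  have h := (basisLoc E p U hU).toSheafify_bijective 1
  rw [Scheme.basicOpen_of_isUnit _ isUnit_one] at h
  exact h

/-- Exterior powers of quasi-coherent modules exist. -/
theorem exists_isExtPow [E.IsQuasicoherent] : ∃ L : X.Modules, ExtPow.IsExtPow p E L := by
  let L := (CohB1.sheafifyMod X).obj (pre E p)
  let ψ : ∀ U : X.affineOpens, ↥(⋀[Γ(X, U.1)]^p (E.val.obj (op U.1))) ≃ₗ[Γ(X, U.1)] (L.val.obj (op U.1)) :=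
    fun U => LinearEquiv.ofBijective
      ({ toFun := fun x => (unit E p).app (op U.1) x
         map_add' := fun x y => map_add ((unit E p).app (op U.1)).hom x y
         map_smul' := fun r x => map_smul ((unit E p).app (op U.1)).hom r x } :
        ↥(⋀[Γ(X, U.1)]^p (E.val.obj (op U.1))) →ₗ[Γ(X, U.1)] (L.val.obj (op U.1)))
      (unit_bijective E p U.2)
  refine ⟨L, fun U => (ψ U).symm, fun U V h e => ?_⟩
  simp only [LinearEquiv.symm_symm]
  show L.val.map (homOfLE h).op ((unit E p).app (op U.1) (exteriorPower.ιMulti Γ(X, U.1) p e)) =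
    (unit E p).app (op V.1) (exteriorPower.ιMulti Γ(X, V.1) p fun j => E.val.map (homOfLE h).op (e j))
  refine (PresheafOfModules.naturality_apply (unit E p) (homOfLE h).op _).symm.trans ?_
  show (unit E p).app (op V.1) (resExt E p h (exteriorPower.ιMulti Γ(X, U.1) p e)) = _
  rw [resExt_ιMulti]
  rfl

end Groth.Agent.FBase64.ExtPowExists
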