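import Groth.Agent.FBase64.ExtPow.Exists
import Groth.Agent.QC70.Closure

/-!
Exterior powers of quasi-coherent modules are unique up to isomorphism.
-/

set_option autoImplicit false
set_option backward.isDefEq.respectTransparency false

universe u

open CategoryTheory AlgebraicGeometry TopologicalSpace Opposite
open Groth.Agent QC70 Props58.LocFree Om3

noncomputable section

namespace Groth.Agent.FBase64.ExtPowExists

variable {X : Scheme.{u}}

theorem isIso_of_affine_bijective {M N : X.Modules} (φ : M ⟶ N)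
    (h : ∀ U : X.affineOpens, Function.Bijective (φ.app U.1)) : IsIso φ := by
  have hres : ∀ {U V : X.Opens} (hV : V ≤ U) (m : Γ(M, U)), res N hV (φ.app U m) = φ.app V (res M hV m) :=
    fun hV m => (ConcreteCategory.congr_hom (φ.mapPresheaf.naturality (homOfLE hV).op) m).symm
  have hinj : ∀ U : X.Opens, Function.Injective (φ.app U) := fun U m m' he =>
    section_ext M m m' fun q hq => by
      obtain ⟨V, hV, hqV, hle⟩ := exists_isAffineOpen_mem_and_subset (x := q) (U := U) hq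
      refine ⟨V, hle, hqV, (h ⟨V, hV⟩).1 ?_⟩
      show φ.app V (res M hle m) = φ.app V (res M hle m')
      rw [← hres, ← hres, he]
  have hbij : ∀ U : X.Opens, Function.Bijective (φ.app U) := fun U => by
    refine ⟨hinj U, fun n => ?_⟩
    let ι := {V : X.affineOpens // V.1 ≤ U}
    have hcov : U ≤ ⨆ i : ι, i.1.1 := fun q hq => by
      obtain ⟨V, hV, hqV, hle⟩ := exists_isAffineOpen_mem_and_subset (x := q) (U := U) hq
      exact Opens.mem_iSup.2 ⟨⟨⟨V, hV⟩, hle⟩, hqV⟩
    choose m hm using fun i : ι => (h i.1).2 (res N i.2 n)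
    obtain ⟨t, ht⟩ := QC70.exists_glue M (fun i : ι => i.1.1) (fun i => i.2) hcov m fun i j => by
      apply hinj
      rw [← hres, ← hres, hm, hm, res_res, res_res]
    exact ⟨t, section_ext' N (fun i : ι => i.1.1) (fun i => i.2) hcov _ _ fun i => by
      rw [hres, ht, hm]⟩
  exact Scheme.Modules.Hom.isIso_iff_isIso_app.2 fun U => (ConcreteCategory.isIso_iff_bijective _).2 (hbij U)

variable {E : X.Modules} {p : ℕ} {L : X.Modules}

theorem exists_mu (ψ : ∀ W : X.affineOpens, ↥(⋀[Γ(X, W.1)]^p Γ(E, W.1)) ≃ₗ[Γ(X, W.1)] Γ(L, W.1))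
    (hψ : ∀ (U V : X.affineOpens) (h : V.1 ≤ U.1) (x : ↥(⋀[Γ(X, U.1)]^p Γ(E, U.1))),
      res L h (ψ U x) = ψ V (resExt E p h x))
    (U : X.Opens) :
    ∃ μ : ↥(⋀[Γ(X, U)]^p Γ(E, U)) →ₗ[Γ(X, U)] Γ(L, U),
      ∀ (V : X.affineOpens) (hV : V.1 ≤ U) x, res L hV (μ x) = ψ V (resExt E p hV x) := by
  let ι := {V : X.affineOpens // V.1 ≤ U}
  have hcov : U ≤ ⨆ i : ι, i.1.1 := fun q hq => by
    obtain ⟨V, hV, hqV, hle⟩ := exists_isAffineOpen_mem_and_subset (x := q) (U := U) hq
    exact Opens.mem_iSup.2 ⟨⟨⟨V, hV⟩, hle⟩, hqV⟩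
  have huniq : ∀ s t : Γ(L, U), (∀ i : ι, res L i.2 s = res L i.2 t) → s = t := fun s t h =>
    section_ext' L (fun i : ι => i.1.1) (fun i => i.2) hcov s t h
  have hex : ∀ x : ↥(⋀[Γ(X, U)]^p Γ(E, U)), ∃ t : Γ(L, U), ∀ i : ι,
      res L i.2 t = ψ i.1 (resExt E p i.2 x) := fun x =>
    QC70.exists_glue L (fun i : ι => i.1.1) (fun i => i.2) hcov _ fun i j => by
      refine section_ext _ _ _ fun q hq => ?_
      obtain ⟨V₀, hV₀, hqV, hVle⟩ := exists_isAffineOpen_mem_and_subset (x := q) (U := i.1.1 ⊓ j.1.1) hq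
      refine ⟨V₀, hVle, hqV, ?_⟩
      rw [res_res, res_res, hψ i.1 ⟨V₀, hV₀⟩ (fun a ha => (hVle ha).1),
        hψ j.1 ⟨V₀, hV₀⟩ (fun a ha => (hVle ha).2), resExt_resExt, resExt_resExt]
  choose μ hμ using hex
  refine ⟨{ toFun := μ, map_add' := fun a b => ?_, map_smul' := fun r a => ?_ }, fun V hV x => hμ x ⟨V, hV⟩⟩
  · refine huniq _ _ fun i => ?_
    refine (hμ _ i).trans (Eq.trans ?_ (res_add i.2 (μ a) (μ b)).symm)
    refine (congrArg (ψ i.1) ((resExt E p i.2).map_add a b)).trans ?_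
    exact ((ψ i.1).map_add _ _).trans (congrArg₂ (· + ·) (hμ a i).symm (hμ b i).symm)
  · refine huniq _ _ fun i => ?_
    refine (hμ _ i).trans (Eq.trans ?_ (res_smul i.2 r (μ a)).symm)
    refine (congrArg (ψ i.1) (resExt_smul E i.2 r a)).trans ?_
    exact ((ψ i.1).map_smul _ _).trans (congrArg (_ • ·) (hμ a i).symm)

variable [E.IsQuasicoherent]

/-- Every exterior power is the sheafified sectionwise one. -/
theorem nonempty_iso_sheafify (hL : ExtPow.IsExtPow p E L) :
    Nonempty ((CohB1.sheafifyMod X).obj (pre E p) ≅ L) := by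
  obtain ⟨ψ, hψ⟩ := exists_psi hL
  choose μ hμ using exists_mu ψ hψ
  let η : pre E p ⟶ L.val :=
    { app := fun U => ModuleCat.ofHom (μ U.unop)
      naturality := fun {U V} i => by
        ext x
        show μ V.unop (resExt E p i.unop.le x) = res L i.unop.le (μ U.unop x)
        refine section_ext' L (fun W : {W : X.affineOpens // W.1 ≤ V.unop} => W.1.1) (fun W => W.2)
          (fun q hq => ?_) _ _ fun W => ?_
        · obtain ⟨W, hW, hqW, hle⟩ := exists_isAffineOpen_mem_and_subset (x := q) (U := V.unop) hq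
          exact Opens.mem_iSup.2 ⟨⟨⟨W, hW⟩, hle⟩, hqW⟩
        · rw [hμ V.unop W.1 W.2, res_res, hμ U.unop W.1 (W.2.trans i.unop.le), resExt_resExt] }
  let adj := PresheafOfModules.sheafificationAdjunction (𝟙 X.ringCatSheaf.obj)
  let θ : (CohB1.sheafifyMod X).obj (pre E p) ⟶ L := (adj.homEquiv (pre E p) L).symm η
  have hθ : adj.homEquiv (pre E p) L θ = η := Equiv.apply_symm_apply _ _
  rw [Adjunction.homEquiv_unit] at hθ
  have : IsIso θ := isIso_of_affine_bijective θ fun U => by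
    have h1 : ∀ x : ↥(⋀[Γ(X, U.1)]^p Γ(E, U.1)), θ.app U.1 ((unit E p).app (op U.1) x) = ψ U x := fun x => by
      refine (congrArg (fun a => a.app (op U.1) x) hθ).trans ?_
      show μ U.1 x = _
      have h := hμ U.1 U le_rfl x
      rwa [res_self, resExt_self] at h
    refine ⟨fun a b hab => ?_, fun l => ?_⟩
    · obtain ⟨x, rfl⟩ := (unit_bijective E p U.2).2 a
      obtain ⟨y, rfl⟩ := (unit_bijective E p U.2).2 b
      rw [h1, h1] at hab
      rw [(ψ U).injective hab]
    · exact ⟨(unit E p).app (op U.1) ((ψ U).symm l), (h1 _).trans ((ψ U).apply_symm_apply l)⟩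
  exact ⟨asIso θ⟩

/-- Exterior powers of a quasi-coherent module are unique up to isomorphism. -/
theorem nonempty_iso_of_isExtPow {L' : X.Modules} (hL : ExtPow.IsExtPow p E L)
    (hL' : ExtPow.IsExtPow p E L') : Nonempty (L ≅ L') :=
  ⟨(nonempty_iso_sheafify hL).some.symm ≪≫ (nonempty_iso_sheafify hL').some⟩

end Groth.Agent.FBase64.ExtPowExists
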