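import Groth.Agent.FBase64.ExtPow.Twist
import Mathlib.LinearAlgebra.TensorProduct.Basis
import Mathlib.LinearAlgebra.Matrix.Kronecker
import Mathlib.LinearAlgebra.Determinant

/-!
Determinants of tensor products: `det (E ⊗ F) = (det E)^f ⊗ (det F)^e`.
-/

set_option autoImplicit false
set_option backward.isDefEq.respectTransparency.types false

universe u

open CategoryTheory CategoryTheory.Limits AlgebraicGeometry TopologicalSpace Opposite exteriorPower Matrix
open scoped Kronecker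

noncomputable section

namespace Groth.Agent.FBase64.ExtPowDet

theorem ιMulti_eq_det_smul {R M : Type u} [CommRing R] [AddCommGroup M] [Module R M] {n : ℕ}
    (b : Module.Basis (Fin n) R M) (v : Fin n → M) : ιMulti R n v = b.det v • ιMulti R n b := by
  have h : ιMulti R n = (LinearMap.toSpanSingleton R _ (ιMulti R n b)).compAlternatingMap b.det := by
    refine b.ext_alternating fun i hi => ?_
    let σ : Equiv.Perm (Fin n) := Equiv.ofBijective i (Finite.injective_iff_bijective.1 hi)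
    have hσ : (fun j => b (i j)) = b ∘ σ := rfl
    rw [hσ]
    simp only [LinearMap.compAlternatingMap_apply, LinearMap.toSpanSingleton_apply,
      AlternatingMap.map_perm, Module.Basis.det_self]
    rw [one_smul]
  exact DFunLike.congr_fun h v

theorem toMatrix_tensor {R M N P : Type u} [CommRing R] [AddCommGroup M] [Module R M] [AddCommGroup N]
    [Module R N] [AddCommGroup P] [Module R P] {e f : ℕ} (bM : Module.Basis (Fin e) R M)
    (bN : Module.Basis (Fin f) R N) (eT : TensorProduct R M N ≃ₗ[R] P) (v : Fin e → M) (w : Fin f → N) :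
    (((bM.tensorProduct bN).reindex finProdFinEquiv).map eT).det
        (fun i => eT (v (finProdFinEquiv.symm i).1 ⊗ₜ[R] w (finProdFinEquiv.symm i).2)) =
      bM.det v ^ f * bN.det w ^ e := by
  classical
  simp only [Module.Basis.det_apply]
  rw [show ((((bM.tensorProduct bN).reindex finProdFinEquiv).map eT).toMatrix
      fun i => eT (v (finProdFinEquiv.symm i).1 ⊗ₜ[R] w (finProdFinEquiv.symm i).2)) =
    ((bM.toMatrix v) ⊗ₖ (bN.toMatrix w)).submatrix finProdFinEquiv.symm finProdFinEquiv.symm from ?_]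
  · rw [det_submatrix_equiv_self, det_kronecker, Fintype.card_fin, Fintype.card_fin]
  · ext i j
    simp [Module.Basis.toMatrix_apply, Matrix.kroneckerMap_apply, Module.Basis.repr_reindex_apply,
      Module.Basis.tensorProduct_repr_tmul_apply, mul_comm]

open Groth.Agent QC70 Props58.LocFree Om3 ExtPowFamily ExtPowTwist

set_option maxHeartbeats 1600000 in
theorem nonempty_iso {X : Scheme.{u}} {E F DE DF D : X.Modules} {e f : ℕ}
    [E.IsQuasicoherent] [F.IsQuasicoherent]
    (hE : FlatMod.IsFinLocFreeOfRank e E) (hF : FlatMod.IsFinLocFreeOfRank f F)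
    (hDE : ExtPow.IsExtPow e E DE) (hDF : ExtPow.IsExtPow f F DF)
    (hD : ExtPow.IsExtPow (e * f) (CohB1.tensorMod E F) D) :
    Nonempty (D ≅ CohB1.tensorMod (CohB1.tensorPow DE f) (CohB1.tensorPow DF e)) := by
  have hQT : (CohB1.tensorMod E F).IsQuasicoherent := QCTens72.isQuasicoherent_tensorMod _ _
  have hQD := isQuasicoherent_of_isExtPow hD
  have hQE := isQuasicoherent_of_isExtPow hDE
  have hQF := isQuasicoherent_of_isExtPow hDF
  have hQA : (CohB1.tensorPow DE f).IsQuasicoherent := ExtPowFamily.isQuasicoherent_tensorPow DE f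
  have hQB : (CohB1.tensorPow DF e).IsQuasicoherent := ExtPowFamily.isQuasicoherent_tensorPow DF e
  have hQG : (CohB1.tensorMod (CohB1.tensorPow DE f) (CohB1.tensorPow DF e)).IsQuasicoherent :=
    QCTens72.isQuasicoherent_tensorMod _ _
  obtain ⟨ψE, hψE⟩ := exists_psi hDE
  obtain ⟨ψF, hψF⟩ := exists_psi hDF
  obtain ⟨ψD, hψD⟩ := exists_psi hD
  let P : X.affineOpens → Prop := fun W => Nonempty
    (Module.Basis (Fin e) Γ(X, W.1) Γ(E, W.1) × Module.Basis (Fin f) Γ(X, W.1) Γ(F, W.1))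
  obtain ⟨γ, eγ⟩ : ∃ γ : ∀ (W : X.affineOpens), (Fin e → Γ(E, W.1)) → (Fin f → Γ(F, W.1)) →
      Γ(CohB1.tensorMod (CohB1.tensorPow DE f) (CohB1.tensorPow DF e), W.1), ∀ W v w, γ W v w =
    Amp73.tm _ _ (Amp73.epow (ψE W (ιMulti Γ(X, W.1) e v)) f) (Amp73.epow (ψF W (ιMulti Γ(X, W.1) f w)) e) :=
    ⟨_, fun _ _ _ => rfl⟩
  obtain ⟨δ, eδ⟩ : ∃ δ : ∀ (W : X.affineOpens), (Fin e → Γ(E, W.1)) → (Fin f → Γ(F, W.1)) → Γ(D, W.1),
      ∀ W v w, δ W v w = ψD W (ιMulti Γ(X, W.1) (e * f) fun i =>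
        Amp73.tm E F (v (finProdFinEquiv.symm i).1) (w (finProdFinEquiv.symm i).2)) := ⟨_, fun _ _ _ => rfl⟩
  have hγ : ∀ (W : X.affineOpens) (bE : Module.Basis (Fin e) Γ(X, W.1) Γ(E, W.1))
      (bF : Module.Basis (Fin f) Γ(X, W.1) Γ(F, W.1)) v w,
      γ W v w = (bE.det v ^ f * bF.det w ^ e) • γ W bE bF := fun W bE bF v w => by
    rw [eγ, eγ]
    rw [ιMulti_eq_det_smul bE v, ιMulti_eq_det_smul bF w, map_smul, map_smul, Amp73.epow_smul,
      Amp73.epow_smul, Amp73.tm_smul]
  have hδ : ∀ (W : X.affineOpens) (bE : Module.Basis (Fin e) Γ(X, W.1) Γ(E, W.1))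
      (bF : Module.Basis (Fin f) Γ(X, W.1) Γ(F, W.1)) v w,
      δ W v w = (bE.det v ^ f * bF.det w ^ e) • δ W bE bF ∧
        Function.Bijective fun a : Γ(X, W.1) => a • δ W bE bF := fun W bE bF v w => by
    obtain ⟨eT, heT⟩ := Mum71.exists_tensor_equiv E F W.2
    let b := ((bE.tensorProduct bF).reindex finProdFinEquiv).map eT
    have hb : ∀ (v : Fin e → Γ(E, W.1)) (w : Fin f → Γ(F, W.1)),
        (fun i => Amp73.tm E F (v (finProdFinEquiv.symm i).1) (w (finProdFinEquiv.symm i).2)) =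
          fun i => eT (v (finProdFinEquiv.symm i).1 ⊗ₜ[Γ(X, W.1)] w (finProdFinEquiv.symm i).2) :=
      fun v w => funext fun i => (heT _ _).symm
    have hbb : (fun i => eT (bE (finProdFinEquiv.symm i).1 ⊗ₜ[Γ(X, W.1)] bF (finProdFinEquiv.symm i).2)) = ⇑b :=
      funext fun i => by simp [b, Module.Basis.tensorProduct_apply']
    refine ⟨?_, ?_⟩
    · rw [eδ, eδ]
      rw [hb, hb, hbb, ← map_smul, ← toMatrix_tensor bE bF eT v w]
      exact congrArg (ψD W) (ιMulti_eq_det_smul b _)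
    · refine (congrArg Function.Bijective (funext fun a => ?_)).mp
        ((ψD W).bijective.comp (DetSeq.bijective_smul_top b))
      rw [eδ]
      show ψD W (a • ιMulti Γ(X, W.1) (e * f) b) = a • ψD W _
      rw [hb, hbb, map_smul]
  have hT : ∀ (W : X.affineOpens) (hW : P W),
      ∃ T : Γ(CohB1.tensorMod (CohB1.tensorPow DE f) (CohB1.tensorPow DF e), W.1) ≃ₗ[Γ(X, W.1)] Γ(D, W.1),
        T (γ W hW.some.1 hW.some.2) = δ W hW.some.1 hW.some.2 := fun W hW => by
    have gE : Gen DE W.1 (ψE W (ιMulti Γ(X, W.1) e hW.some.1)) := by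
      refine (congrArg Function.Bijective (funext fun a => ?_)).mp
        ((ψE W).bijective.comp (DetSeq.bijective_smul_top hW.some.1))
      exact map_smul (ψE W) a _
    have gF : Gen DF W.1 (ψF W (ιMulti Γ(X, W.1) f hW.some.2)) := by
      refine (congrArg Function.Bijective (funext fun a => ?_)).mp
        ((ψF W).bijective.comp (DetSeq.bijective_smul_top hW.some.2))
      exact map_smul (ψF W) a _
    have g : Gen _ W.1 (γ W hW.some.1 hW.some.2) := by
      rw [eγ]
      exact gen_tm W.2 (gen_epow W.2 gE f) (gen_epow W.2 gF e)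
    let e₁ := LinearEquiv.ofBijective (LinearMap.toSpanSingleton Γ(X, W.1) _ (γ W hW.some.1 hW.some.2)) g
    let e₂ := LinearEquiv.ofBijective (LinearMap.toSpanSingleton Γ(X, W.1) _ (δ W hW.some.1 hW.some.2))
      (hδ W hW.some.1 hW.some.2 hW.some.1 hW.some.2).2
    refine ⟨e₁.symm.trans e₂, ?_⟩
    show e₂ (e₁.symm _) = _
    rw [show e₁.symm (γ W hW.some.1 hW.some.2) = 1 from e₁.symm_apply_eq.2
      (one_smul Γ(X, W.1) (γ W hW.some.1 hW.some.2)).symm]
    exact one_smul _ _
  choose T hTg using hT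
  refine (nonempty_iso_of_affine_family P (fun x => ?_) (fun W V h ⟨bE, bF⟩ => ?_) T
    fun W V h hW hV z => ?_).map Iso.symm
  · obtain ⟨U, hU, hU'⟩ := DetSeq.exists_basis hE x
    obtain ⟨U₂, hU₂, hU₂'⟩ := DetSeq.exists_basis hF x
    obtain ⟨W, hW, hxW, hle⟩ := exists_isAffineOpen_mem_and_subset (show x ∈ U ⊓ U₂ from ⟨hU, hU₂⟩)
    exact ⟨⟨W, hW⟩, ⟨(hU' W fun y hy => (hle hy).1).some, (hU₂' W fun y hy => (hle hy).2).some⟩, hxW⟩
  · exact ⟨(DetSeq.exists_basis_res bE h).choose, (DetSeq.exists_basis_res bF h).choose⟩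
  · have hz : ∃ a : Γ(X, W.1), z = a • γ W hW.some.1 hW.some.2 := by
      obtain ⟨a, ha⟩ := (hδ W hW.some.1 hW.some.2 hW.some.1 hW.some.2).2.2 (T W hW z)
      exact ⟨a, (T W hW).injective (by rw [map_smul, hTg]; exact ha.symm)⟩
    obtain ⟨a, rfl⟩ := hz
    have h1 : res _ h (γ W hW.some.1 hW.some.2) =
        γ V (fun k => res E h (hW.some.1 k)) (fun k => res F h (hW.some.2 k)) := by
      rw [eγ, eγ]
      rw [res_tm, res_epow, res_epow, hψE, hψF, resExt_ιMulti, resExt_ιMulti]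
    have h2 : res D h (δ W hW.some.1 hW.some.2) =
        δ V (fun k => res E h (hW.some.1 k)) (fun k => res F h (hW.some.2 k)) := by
      rw [eδ, eδ]
      rw [hψD, resExt_ιMulti]
      simp only [res_tm]
    rw [map_smul, hTg, res_smul, h2, res_smul, h1, map_smul, hγ V hV.some.1 hV.some.2]
    refine congrArg (resO X h a • ·) ?_
    rw [map_smul, hTg]
    exact (hδ V hV.some.1 hV.some.2 _ _).1

end Groth.Agent.FBase64.ExtPowDet
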