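import Groth.Agent.Om3.DetSeq
import Groth.Agent.Amp73.Powers

/-!
Isomorphisms from natural families on affine opens, and generators of tensor products on affine opens.
-/

set_option autoImplicit false
set_option backward.isDefEq.respectTransparency.types false

universe u

open CategoryTheory CategoryTheory.Limits AlgebraicGeometry TopologicalSpace Opposite TensorProduct

noncomputable section

namespace Groth.Agent.FBase64.ExtPowFamily

open Groth.Agent QC70

variable {X : Scheme.{u}} {G M : X.Modules}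

/-- A natural family of isomorphisms on the affine opens of a basis glues to an isomorphism. -/
theorem nonempty_iso_of_affine_family [G.IsQuasicoherent] [M.IsQuasicoherent] (P : X.affineOpens → Prop)
    (hcov : ∀ x : X, ∃ W : X.affineOpens, P W ∧ x ∈ W.1)
    (hmono : ∀ W V : X.affineOpens, V.1 ≤ W.1 → P W → P V)
    (T : ∀ W : X.affineOpens, P W → (Γ(G, W.1) ≃ₗ[Γ(X, W.1)] Γ(M, W.1)))
    (hT : ∀ (W V : X.affineOpens) (h : V.1 ≤ W.1) (hW : P W) (hV : P V) (z : Γ(G, W.1)),
      res M h (T W hW z) = T V hV (res G h z)) :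
    Nonempty (G ≅ M) := by
  let ι := {W : X.affineOpens // P W}
  let φ : ∀ W : ι, HomOn G M W.1.1 := fun W => HomOn.ofLinear W.1.2 (T W.1 W.2).toLinearMap
  have hbasic : ∀ (W : ι) (f : Γ(X, W.1.1)) (hD : P ⟨X.basicOpen f, W.1.2.basicOpen f⟩)
      (z : Γ(G, X.basicOpen f)),
      (φ W).app _ (X.basicOpen_le f) z = T ⟨_, W.1.2.basicOpen f⟩ hD z := by
    intro W f hD z
    obtain ⟨n, t, ht⟩ := (isLocAt_of_isQuasicoherent (M := G) W.1.2).exists_of f z
    have hu : IsUnit (resO X (X.basicOpen_le f) f) := RingedSpace.isUnit_res_basicOpen _ f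
    refine (hu.pow n).smul_left_cancel.mp ?_
    rw [← LinearMap.map_smul, ← LinearEquiv.map_smul, ← ht, (φ W).app_res le_rfl, HomOn.ofLinear_app_self]
    exact hT W.1 ⟨_, W.1.2.basicOpen f⟩ (X.basicOpen_le f) W.2 hD t
  have key : ∀ (W : ι) (V : X.affineOpens) (h : V.1 ≤ W.1.1) (hV : P V) (z : Γ(G, V.1)),
      (φ W).app V.1 h z = T V hV z := by
    intro W V h hV z
    refine section_ext M _ _ fun p hp => ?_
    obtain ⟨f, hfV, hpf⟩ := W.1.2.exists_basicOpen_le ⟨p, hp⟩ (h hp)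
    refine ⟨X.basicOpen f, hfV, hpf, ?_⟩
    have hD := hmono W.1 ⟨_, W.1.2.basicOpen f⟩ (X.basicOpen_le f) W.2
    rw [← (φ W).app_res h hfV, hbasic W f hD, hT V ⟨_, W.1.2.basicOpen f⟩ hfV hV hD]
  have hcomp : HomOn.Compatible φ := by
    intro i j V hi hj z
    refine section_ext M _ _ fun p hp => ?_
    obtain ⟨W, hW, hpW, hle⟩ := exists_isAffineOpen_mem_and_subset hp
    refine ⟨W, hle, hpW, ?_⟩
    rw [← (φ i).app_res hi hle, ← (φ j).app_res hj hle]
    have hP : P ⟨W, hW⟩ := hmono i.1 ⟨W, hW⟩ (fun y hy => hi (hle hy)) i.2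
    exact (key i ⟨W, hW⟩ _ hP _).trans (key j ⟨W, hW⟩ _ hP _).symm
  have hcov' : ∀ x : X, ∃ W : ι, x ∈ W.1.1 := fun x => by
    obtain ⟨W, hP, hx⟩ := hcov x
    exact ⟨⟨W, hP⟩, hx⟩
  have hU : (⊤ : X.Opens) ≤ ⨆ W : ι, W.1.1 := fun p _ => Opens.mem_iSup.2 (hcov' p)
  let Ψ := (HomOn.glue hcomp hU).toHom
  have hΨ : ∀ W : ι, Function.Bijective (Ψ.app W.1.1) := fun W => by
    refine (congrArg Function.Bijective (funext fun z => ?_)).mp (T W.1 W.2).bijective
    refine Eq.trans ?_ (HomOn.glue_app hcomp hU le_top W le_rfl z).symm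
    rw [HomOn.ofLinear_app_self]
    rfl
  have : IsIso Ψ := EGA73.isIso_of_bijective_cover Ψ (fun W : ι => W.1.1) (fun W => W.1.2) hcov' hΨ
  exact ⟨asIso Ψ⟩

/-- A section generating freely. -/
def Gen (L : X.Modules) (U : X.Opens) (l : Γ(L, U)) : Prop :=
  Function.Bijective fun a : Γ(X, U) => a • l

theorem exists_tm_right [G.IsQuasicoherent] {L : X.Modules} [L.IsQuasicoherent] {U : X.Opens}
    (hU : IsAffineOpen U) {l : Γ(L, U)} (hl : Gen L U l) :
    ∃ e : Γ(G, U) ≃ₗ[Γ(X, U)] Γ(CohB1.tensorMod G L, U), ∀ x, e x = Amp73.tm G L x l := by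
  obtain ⟨eT, heT⟩ := Mum71.exists_tensor_equiv G L hU
  let eL : Γ(X, U) ≃ₗ[Γ(X, U)] Γ(L, U) := LinearEquiv.ofBijective (LinearMap.toSpanSingleton Γ(X, U) _ l) hl
  refine ⟨(TensorProduct.rid Γ(X, U) Γ(G, U)).symm.trans
    ((TensorProduct.congr (LinearEquiv.refl _ _) eL).trans eT), fun x => ?_⟩
  show eT (TensorProduct.congr (LinearEquiv.refl _ _) eL ((TensorProduct.rid Γ(X, U) Γ(G, U)).symm x)) = _
  rw [TensorProduct.rid_symm_apply, TensorProduct.congr_tmul, heT]
  exact congrArg (Amp73.tm G L x) (one_smul Γ(X, U) l)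

theorem gen_tm {L L' : X.Modules} [L.IsQuasicoherent] [L'.IsQuasicoherent] {U : X.Opens}
    (hU : IsAffineOpen U) {l : Γ(L, U)} {l' : Γ(L', U)} (hl : Gen L U l) (hl' : Gen L' U l') :
    Gen (CohB1.tensorMod L L') U (Amp73.tm L L' l l') := by
  obtain ⟨e, he⟩ := exists_tm_right (G := L) hU hl'
  refine (congrArg Function.Bijective (funext fun a => ?_)).mp (e.bijective.comp hl)
  show e (a • l) = _
  rw [map_smul, he]

theorem isQuasicoherent_tensorPow (L : X.Modules) [L.IsQuasicoherent] :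
    ∀ n, (CohB1.tensorPow L n).IsQuasicoherent
  | 0 => by show (Coh.structureModule X).IsQuasicoherent; infer_instance
  | n + 1 => by
    have := isQuasicoherent_tensorPow L n
    exact QCTens72.isQuasicoherent_tensorMod _ _

theorem gen_epow {L : X.Modules} [L.IsQuasicoherent] {U : X.Opens} (hU : IsAffineOpen U) {l : Γ(L, U)}
    (hl : Gen L U l) : ∀ n, Gen (CohB1.tensorPow L n) U (Amp73.epow l n)
  | 0 => ⟨fun (a b : Γ(X, U)) h => ((mul_one a).symm.trans h).trans (mul_one b),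
      fun (c : Γ(X, U)) => ⟨c, mul_one c⟩⟩
  | n + 1 => by
    have := isQuasicoherent_tensorPow L n
    exact gen_tm hU (gen_epow hU hl n) hl

end Groth.Agent.FBase64.ExtPowFamily
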