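import Groth.Agent.FBase64.ExtPow.Family
import Groth.Prelude.Def_ExtPow2

/-!
Exterior powers of a twist: `Λ^k (E ⊗ L) = Λ^k E ⊗ L^k`.
-/

set_option autoImplicit false
set_option backward.isDefEq.respectTransparency.types false

universe u

open CategoryTheory CategoryTheory.Limits AlgebraicGeometry TopologicalSpace Opposite exteriorPower

noncomputable section

namespace Groth.Agent.FBase64.ExtPowTwist

open Groth.Agent QC70 Props58.LocFree Om3 ExtPowFamily

variable {X : Scheme.{u}} {E L M N : X.Modules} {k : ℕ}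

theorem res_tm {A B : X.Modules} {U V : X.Opens} (h : V ≤ U) (m : Γ(A, U)) (n : Γ(B, U)) :
    res (CohB1.tensorMod A B) h (Amp73.tm A B m n) = Amp73.tm A B (res A h m) (res B h n) :=
  SecTwist.map_tmul A B (homOfLE h) m n

theorem res_epow {A : X.Modules} {U V : X.Opens} (h : V ≤ U) (e : Γ(A, U)) (n : ℕ) :
    res _ h (Amp73.epow e n) = Amp73.epow (res A h e) n := Amp73.res_epow h e n

set_option maxHeartbeats 800000 in
theorem nonempty_iso [E.IsQuasicoherent] [L.IsQuasicoherent] (hL : FlatMod.IsFinLocFreeOfRank 1 L)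
    (hM : ExtPow.IsExtPow k (CohB1.tensorMod E L) M) (hN : ExtPow.IsExtPow k E N) :
    Nonempty (M ≅ CohB1.tensorMod N (CohB1.tensorPow L k)) := by
  have hQT : (CohB1.tensorMod E L).IsQuasicoherent := QCTens72.isQuasicoherent_tensorMod _ _
  have hQM := isQuasicoherent_of_isExtPow hM
  have hQN := isQuasicoherent_of_isExtPow hN
  have hQP : (CohB1.tensorPow L k).IsQuasicoherent := ExtPowFamily.isQuasicoherent_tensorPow L k
  have hQG : (CohB1.tensorMod N (CohB1.tensorPow L k)).IsQuasicoherent := QCTens72.isQuasicoherent_tensorMod _ _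
  obtain ⟨ψM, hψM⟩ := exists_psi hM
  obtain ⟨ψN, hψN⟩ := exists_psi hN
  let P : X.affineOpens → Prop := fun W => ∃ l : Γ(L, W.1), Var76.LineBundle.IsFrame L W.1 l
  have hgen : ∀ (W : X.affineOpens) (l : Γ(L, W.1)), Var76.LineBundle.IsFrame L W.1 l → Gen L W.1 l :=
    fun W l hl => by
      refine (congrArg Function.Bijective (funext fun a => ?_)).mp (hl W.1 le_rfl)
      exact congrArg (a • ·) (res_self l)
  have hT : ∀ (W : X.affineOpens) (hW : P W),
      ∃ T : Γ(CohB1.tensorMod N (CohB1.tensorPow L k), W.1) ≃ₗ[Γ(X, W.1)] Γ(M, W.1),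
      ∀ e : Fin k → Γ(E, W.1),
        T (Amp73.tm N _ (ψN W (ιMulti Γ(X, W.1) k e)) (Amp73.epow hW.choose k)) =
          ψM W (ιMulti Γ(X, W.1) k fun i => Amp73.tm E L (e i) hW.choose) := by
    intro W hW
    have hl := hgen W _ hW.choose_spec
    obtain ⟨eE, heE⟩ := exists_tm_right (G := E) W.2 hl
    obtain ⟨eN, heN⟩ := exists_tm_right (G := N) W.2 (gen_epow W.2 hl k)
    let em : ↥(⋀[Γ(X, W.1)]^k Γ(E, W.1)) ≃ₗ[Γ(X, W.1)] ↥(⋀[Γ(X, W.1)]^k Γ(CohB1.tensorMod E L, W.1)) :=
      LinearEquiv.ofLinearMap (exteriorPower.map k eE.toLinearMap) (exteriorPower.map k eE.symm.toLinearMap)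
        (by rw [← exteriorPower.map_comp, LinearEquiv.comp_symm, exteriorPower.map_id])
        (by rw [← exteriorPower.map_comp, LinearEquiv.symm_comp, exteriorPower.map_id])
    refine ⟨eN.symm.trans ((ψN W).symm.trans (em.trans (ψM W))), fun e => ?_⟩
    show ψM W (em ((ψN W).symm (eN.symm _))) = _
    rw [← heN, LinearEquiv.symm_apply_apply, LinearEquiv.symm_apply_apply]
    refine congrArg (ψM W) ((exteriorPower.map_apply_ιMulti _ e).trans ?_)
    exact congrArg _ (funext fun i => heE (e i))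
  choose T hTe using hT
  refine (nonempty_iso_of_affine_family P (fun x => ?_) (fun W V h ⟨l, hl⟩ => ⟨res L h l, fun U hU => ?_⟩) T
    fun W V h hW hV z => ?_).map Iso.symm
  · obtain ⟨U, hxU, l, hl⟩ := Var76.LineBundle.exists_frame hL x
    obtain ⟨W, hW, hxW, hle⟩ := exists_isAffineOpen_mem_and_subset hxU
    refine ⟨⟨W, hW⟩, ⟨res L hle l, fun V hV => ?_⟩, hxW⟩
    refine (congrArg Function.Bijective (funext fun a => ?_)).mp (hl V (hV.trans hle))
    exact congrArg (a • ·) (res_res _ _ l).symm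
  · refine (congrArg Function.Bijective (funext fun a => ?_)).mp (hl U (hU.trans h))
    exact congrArg (a • ·) (res_res _ _ l).symm
  · obtain ⟨eN, heN⟩ := exists_tm_right (G := N) W.2 (gen_epow W.2 (hgen W _ hW.choose_spec) k)
    obtain ⟨y, rfl⟩ := ((ψN W).trans eN).surjective z
    refine DFunLike.congr_fun (semilinear_ext (resO X h)
      (AddMonoidHom.mk' (fun y => res M h (T W hW (eN (ψN W y)))) fun a b => by
        show res M h (T W hW (eN (ψN W (a + b)))) = _
        rw [map_add, map_add, map_add, res_add])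
      (AddMonoidHom.mk' (fun y => T V hV (res _ h (eN (ψN W y)))) fun a b => by
        show T V hV (res _ h (eN (ψN W (a + b)))) = _
        rw [map_add, map_add, res_add, map_add])
      (fun r m => ?_) (fun r m => ?_) (ιMulti_span Γ(X, W.1) k Γ(E, W.1)) ?_) y
    · show res M h (T W hW (eN (ψN W (r • m)))) = resO X h r • res M h (T W hW (eN (ψN W m)))
      rw [map_smul, map_smul, map_smul, res_smul]
    · show T V hV (res _ h (eN (ψN W (r • m)))) = resO X h r • T V hV (res _ h (eN (ψN W m)))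
      rw [map_smul, map_smul, res_smul, map_smul]
    · rintro _ ⟨e, rfl⟩
      show res M h (T W hW (eN (ψN W (ιMulti Γ(X, W.1) k e)))) =
        T V hV (res _ h (eN (ψN W (ιMulti Γ(X, W.1) k e))))
      obtain ⟨a, ha⟩ := (hgen V _ hV.choose_spec).2 (res L h hW.choose)
      rw [heN, hTe, hψM, resExt_ιMulti, res_tm, hψN, resExt_ιMulti, res_epow]
      simp only [res_tm]
      rw [← ha]
      simp only [Amp73.epow_smul, Amp73.tm_smul_right]
      rw [map_smul, hTe, ← map_smul]
      refine congrArg (ψM V) ?_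
      refine ((ιMulti Γ(X, V.1) k).toMultilinearMap.map_smul_univ (fun _ => a) _).trans ?_
      rw [Finset.prod_const, Finset.card_univ, Fintype.card_fin]
      rfl

end Groth.Agent.FBase64.ExtPowTwist
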